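import Groth.Agent.ResProp.EF.K379.KozGen
import Groth.Agent.ResProp.EF.K224.KozBC
import Groth.Agent.ResProp.EF.K734.KGpd

/-!
# Existence of isomorphisms of the pulled back Koszul complex with a given symbol
-/

set_option autoImplicit false
set_option linter.unusedSectionVars false

universe u

namespace Groth.Agent.ResProp.EF.K379

open Groth.Agent.ResProp.EF.K734 Groth.Agent.ResProp.EF.K280 Groth.Agent.ResProp.EF.K224
open Groth.Agent.ResProp.EF.K224.Kos (cv FilE)

/-- the filtration of the ring of an `FD` -/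
def mfil {R : Type u} [CommRing R] {I : Type} (X : FD R I) : K734.MFil X.P := ⟨X.Fil, X.Fil_zero, X.Fil_succ, X.Fil_mul⟩

section

variable {R : Type u} [CommRing R] {P : Type u} [CommRing P] [Algebra R P] (F : K734.MFil P) {e : ℕ} (wt : Fin e → ℕ)
  (u : Fin e → P) (hu : ∀ i, u i ∈ F.F (wt i)) (k : ℕ)

/-- the Koszul complex of `u` -/
noncomputable abbrev KX : FD R (Option ℕ) := kozFD (R := R) F (wtFil F wt) (dualOf u) (dualOf_mem F wt hu) k

theorem dualOf_single (i : Fin e) : dualOf u (Pi.single i 1) = u i := by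
  rw [dualOf_apply, Finset.sum_eq_single i]
  · rw [Pi.single_eq_same, one_mul]
  · intro j _ hj
    rw [Pi.single_eq_of_ne hj, zero_mul]
  · intro h; exact absurd (Finset.mem_univ i) h

variable {R₁ : Type u} [CommRing R₁] (f : R →+* R₁)

/-- the pulled back elements -/
noncomputable def uf (i : Fin e) : (bc (KX (R := R) F wt u hu k) f).P := canP (KX (R := R) F wt u hu k) f (u i)

theorem uf_mem (i : Fin e) : uf F wt u hu k f i ∈ (mfil (bc (KX (R := R) F wt u hu k) f)).F (wt i) :=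
  canP_mem _ f (hu i)

/-- the Koszul complex over the pulled back ring -/
noncomputable abbrev KX₁ : FD R₁ (Option ℕ) :=
  kozFD (R := R₁) (mfil (bc (KX (R := R) F wt u hu k) f)) (wtFil _ wt) (dualOf (uf F wt u hu k f))
    (dualOf_mem _ wt (uf_mem F wt u hu k f)) k

/-- the comparison -/
noncomputable def N1 : FD.SIso (bc (KX (R := R) F wt u hu k) f) (KX₁ F wt u hu k f) :=
  kozBC (wt' := wt) (canP (KX (R := R) F wt u hu k) f) (canP_algebraMap _ f) (BCr_canP _ f) (fun _ => rfl)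
    (fun _ => rfl) (fun _ => rfl) (dualOf u) (dualOf (uf F wt u hu k f)) (dualOf_mem F wt hu)
    (dualOf_mem _ wt (uf_mem F wt u hu k f)) (fun i => by rw [dualOf_single, dualOf_single]; rfl) k

theorem N1_φ (x : (bc (KX (R := R) F wt u hu k) f).P) : (N1 F wt u hu k f).φ x = x := by
  induction x using indP with
  | h0 => exact map_zero _
  | h2 a b ha hb => rw [map_add, ha, hb]; rfl
  | h1 r p =>
    rw [map_smul]
    exact congrArg (r • ·) (kozBC_φ (wt' := wt) (canP (KX (R := R) F wt u hu k) f) (canP_algebraMap _ f)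
      (BCr_canP _ f) (fun _ => rfl) (fun _ => rfl) (fun _ => rfl) (dualOf u) (dualOf (uf F wt u hu k f))
      (dualOf_mem F wt hu) (dualOf_mem _ wt (uf_mem F wt u hu k f))
      (fun i => by rw [dualOf_single, dualOf_single]; rfl) k p)

theorem N1_ψ (z : ExteriorAlgebra P (Fin e → P)) :
    (N1 F wt u hu k f).ψ (canK (KX (R := R) F wt u hu k) f ((filA F (wtFil F wt) (k + 1)).mkQ z)) =
      (filA (mfil (bc (KX (R := R) F wt u hu k) f)) (wtFil _ wt) (k + 1)).mkQ
        (kmap (canP (KX (R := R) F wt u hu k) f) (cv e (canP (KX (R := R) F wt u hu k) f)) z) :=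
  kozBC_ψ (wt' := wt) (canP (KX (R := R) F wt u hu k) f) (canP_algebraMap _ f)
    (BCr_canP _ f) (fun _ => rfl) (fun _ => rfl) (fun _ => rfl) (dualOf u) (dualOf (uf F wt u hu k f))
    (dualOf_mem F wt hu) (dualOf_mem _ wt (uf_mem F wt u hu k f))
    (fun i => by rw [dualOf_single, dualOf_single]; rfl) k z

theorem N1_ef {r : ℕ} (J : Fin r → Fin e) :
    (N1 F wt u hu k f).ψ ((kozGen (R := R) F wt (dualOf u) (dualOf_mem F wt hu) k).ef f J) =
      (filA (mfil (bc (KX (R := R) F wt u hu k) f)) (wtFil _ wt) (k + 1)).mkQ (eA _ J) := by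
  refine (N1_ψ F wt u hu k f (eA P J)).trans ?_
  congr 1
  exact kmap_cmap_eA _ J

/-- `dualOf` is onto after base change -/
theorem surj_bc (hsurj : ∀ n, 1 ≤ n → ∀ x, x ∈ F.F n → ∃ v ∈ (wtFil F wt).G n, dualOf u v = x) (n : ℕ) (hn : 1 ≤ n)
    (x : (bc (KX (R := R) F wt u hu k) f).P) (hx : x ∈ (mfil (bc (KX (R := R) F wt u hu k) f)).F n) :
    ∃ v ∈ (wtFil (mfil (bc (KX (R := R) F wt u hu k) f)) wt).G n, dualOf (uf F wt u hu k f) v = x := by
  change x ∈ (F.F n).map (canP (KX (R := R) F wt u hu k) f) at hx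
  refine Submodule.span_induction (p := fun x _ => ∃ v ∈ (wtFil (mfil (bc (KX (R := R) F wt u hu k) f)) wt).G n,
    dualOf (uf F wt u hu k f) v = x) ?_ ?_ ?_ ?_ hx
  · rintro _ ⟨x, hx, rfl⟩
    obtain ⟨v, hv, rfl⟩ := hsurj n hn x hx
    refine ⟨fun i => canP (KX (R := R) F wt u hu k) f (v i), fun i => canP_mem (KX (R := R) F wt u hu k) f (hv i), ?_⟩
    rw [dualOf_apply, dualOf_apply, map_sum]
    exact Finset.sum_congr rfl fun i _ => (map_mul _ _ _).symm
  · exact ⟨0, Submodule.zero_mem _, map_zero _⟩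
  · rintro _ _ _ _ ⟨v, hv, rfl⟩ ⟨w, hw, rfl⟩
    exact ⟨v + w, Submodule.add_mem _ hv hw, map_add _ _ _⟩
  · rintro a _ _ ⟨v, hv, rfl⟩
    exact ⟨a • v, Submodule.smul_mem _ _ hv, map_smul _ _ _⟩

variable (f' : R →+* R₁)

/-- **existence of an isomorphism with given `φ` and given symbol** -/
theorem exists_near (hbot : F.F (k + 1) = ⊥)
    (hsurj : ∀ n, 1 ≤ n → ∀ x, x ∈ F.F n → ∃ v ∈ (wtFil F wt).G n, dualOf u v = x)
    (φ : (bc (KX (R := R) F wt u hu k) f).P ≃ₐ[R₁] (bc (KX (R := R) F wt u hu k) f').P)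
    (hφ : ∀ m x, x ∈ (bc (KX (R := R) F wt u hu k) f).Fil m → φ x ∈ (bc (KX (R := R) F wt u hu k) f').Fil m)
    (hφ' : ∀ m x, x ∈ (bc (KX (R := R) F wt u hu k) f').Fil m → φ.symm x ∈ (bc (KX (R := R) F wt u hu k) f).Fil m)
    (N M : Matrix (Fin e) (Fin e) R₁) (hNM : N * M = 1) (hMN : M * N = 1) (hN : WtP wt N) (hM : WtP wt M)
    (hgr : ∀ i, φ (canP (KX (R := R) F wt u hu k) f (u i)) - ∑ j, N j i • canP (KX (R := R) F wt u hu k) f' (u j) ∈
      (bc (KX (R := R) F wt u hu k) f').Fil (wt i + 1)) :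
    ∃ s : FD.SIso (bc (KX (R := R) F wt u hu k) f) (bc (KX (R := R) F wt u hu k) f'), s.φ = φ ∧
      near (kozGen (R := R) F wt (dualOf u) (dualOf_mem F wt hu) k) N s := by
  have hb : (mfil (bc (KX (R := R) F wt u hu k) f')).F (k + 1) = ⊥ := by
    change (F.F (k + 1)).map (canP (KX (R := R) F wt u hu k) f') = ⊥
    rw [hbot, Ideal.map_bot]
  obtain ⟨t, htφ, htε⟩ := exists_kLift (R := R₁) (F := mfil (bc (KX (R := R) F wt u hu k) f))
    (F' := mfil (bc (KX (R := R) F wt u hu k) f')) (u := uf F wt u hu k f) (u' := uf F wt u hu k f')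
    (wt := wt) φ.toRingEquiv (fun r => φ.commutes r) hφ hφ' N M hNM hMN hN hM
    (fun i => by
      have h1 := hgr i
      simp only [Algebra.smul_def] at h1
      exact h1) hb (surj_bc F wt u hu k f' hsurj)
  have hu₁ := dualOf_mem _ wt (uf_mem F wt u hu k f)
  have hu₂ := dualOf_mem _ wt (uf_mem F wt u hu k f')
  refine ⟨(N1 F wt u hu k f).trans ((t.siso hu₁ hu₂ k).trans (N1 F wt u hu k f').symm), ?_, ?_⟩
  · refine AlgEquiv.ext fun x => ?_
    change (N1 F wt u hu k f').φ.symm (t.φ ((N1 F wt u hu k f).φ x)) = φ x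
    rw [N1_φ, htφ]
    apply (N1 F wt u hu k f').φ.injective
    rw [AlgEquiv.apply_symm_apply, N1_φ]
    rfl
  · intro r J
    rw [(N1 F wt u hu k f').fil, map_sub, map_sum]
    have h1 : (N1 F wt u hu k f').ψ (((N1 F wt u hu k f).trans ((t.siso hu₁ hu₂ k).trans (N1 F wt u hu k f').symm)).ψ
        ((kozGen (R := R) F wt (dualOf u) (dualOf_mem F wt hu) k).ef f J)) =
        (filA (mfil (bc (KX (R := R) F wt u hu k) f')) (wtFil _ wt) (k + 1)).mkQ
          (kmap t.φ.toRingHom t.ε (eA _ J)) := by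
      change (N1 F wt u hu k f').ψ ((N1 F wt u hu k f').ψ.symm ((t.siso hu₁ hu₂ k).ψ ((N1 F wt u hu k f).ψ _))) = _
      rw [LinearEquiv.apply_symm_apply, N1_ef]
      rfl
    rw [h1]
    have h2 : ∑ J' : Fin r → Fin e, (N1 F wt u hu k f').ψ (coef N J' J •
        (kozGen (R := R) F wt (dualOf u) (dualOf_mem F wt hu) k).ef f' J') =
        (filA (mfil (bc (KX (R := R) F wt u hu k) f')) (wtFil _ wt) (k + 1)).mkQ
          (∑ J' : Fin r → Fin e, coef N J' J • eA _ J') := by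
      rw [map_sum]
      refine Finset.sum_congr rfl fun J' _ => ?_
      rw [map_smul, N1_ef]
      rfl
    rw [h2]
    exact ⟨_, kmap_eA_sub_mem t.φ.toRingHom t.ε N hN t.hφ htε J, map_sub _ _ _⟩

end

end Groth.Agent.ResProp.EF.K379
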