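import Groth.Agent.ResProp.EF.K379.Near
import Groth.Agent.ResProp.EF.K734.Lift

/-!
# Generators of the Koszul complex, symbols of lifts
-/

set_option autoImplicit false
set_option linter.unusedSectionVars false

universe u

namespace Groth.Agent.ResProp.EF.K379

open Groth.Agent.ResProp.EF.K734 Groth.Agent.ResProp.EF.K280

section Ext

variable {P : Type u} [CommRing P] {ι : Type} [Fintype ι] [DecidableEq ι]

/-- `e_{J 0} ∧ ... ∧ e_{J (r-1)}` -/
noncomputable def eA (P : Type u) [CommRing P] {r : ℕ} (J : Fin r → ι) : ExteriorAlgebra P (ι → P) :=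
  ExteriorAlgebra.ιMulti P r fun i => Pi.single (J i) 1

theorem eA_zero (J : Fin 0 → ι) : eA P J = 1 := by
  rw [eA, ExteriorAlgebra.ιMulti_apply]
  rfl

theorem eA_succ {r : ℕ} (j : ι) (J : Fin r → ι) :
    eA P (Fin.cons j J : Fin (r + 1) → ι) = ExteriorAlgebra.ι P (Pi.single j 1) * eA P J := by
  rw [eA, eA, ExteriorAlgebra.ιMulti_succ_apply]
  rfl

theorem wt_cons (wt : ι → ℕ) {r : ℕ} (j : ι) (J : Fin r → ι) :
    ∑ i, wt ((Fin.cons j J : Fin (r + 1) → ι) i) = wt j + ∑ i, wt (J i) := by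
  rw [Fin.sum_univ_succ]
  rfl

variable (F : MFil P) (wt : ι → ℕ)

theorem isF_eA {r : ℕ} (J : Fin r → ι) : IsF F (wtFil F wt) (∑ i, wt (J i)) (eA P J) := by
  induction r with
  | zero =>
    rw [eA_zero, Fin.sum_univ_zero, ← map_one (algebraMap P (ExteriorAlgebra P (ι → P)))]
    exact IsF.alg 0 1 (by rw [F.zero]; trivial)
  | succ r ih =>
    rw [← Fin.cons_self_tail J, eA_succ, wt_cons]
    refine IsF.ι_mul _ _ _ _ (single_mem F wt ?_) (ih _)
    rw [Nat.sub_self, F.zero]; trivial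

/-- the set of generators of `Fil^m` -/
def genSet (m : ℕ) : Set (ExteriorAlgebra P (ι → P)) := {v | ∃ (r : ℕ) (J : Fin r → ι) (a : ℕ) (x : P),
    m ≤ a + ∑ i, wt (J i) ∧ x ∈ F.F a ∧ v = x • eA P J}

theorem mem_span_of_isF {m : ℕ} {z : ExteriorAlgebra P (ι → P)} (hz : IsF F (wtFil F wt) m z) :
    z ∈ Submodule.span P (genSet F wt m) := by
  induction hz with
  | zero m => exact Submodule.zero_mem _
  | add m y z _ _ hy hz => exact Submodule.add_mem _ hy hz
  | alg m x hx =>
    refine Submodule.subset_span ⟨0, Fin.elim0, m, x, by omega, hx, ?_⟩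
    rw [eA_zero, Algebra.algebraMap_eq_smul_one]
  | ι_mul b m v z hv _ hz =>
    refine Submodule.span_induction (p := fun z _ => ExteriorAlgebra.ι P v * z ∈
      Submodule.span P (genSet F wt (b + m))) ?_ ?_ ?_ ?_ hz
    · rintro _ ⟨r, J, a, x, hm, hx, rfl⟩
      rw [sum_single' v, map_sum, Finset.sum_mul]
      refine Submodule.sum_mem _ fun i _ => ?_
      refine Submodule.subset_span ⟨r + 1, Fin.cons i J, (b - wt i) + a, v i * x, ?_,
        F.mul _ _ _ _ (hv i) hx, ?_⟩
      · rw [wt_cons]; omega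
      · rw [map_smul, smul_mul_smul_comm, eA_succ]
    · rw [mul_zero]; exact Submodule.zero_mem _
    · intro y z _ _ hy hz
      rw [mul_add]; exact Submodule.add_mem _ hy hz
    · intro x z _ hz
      rw [mul_smul_comm]; exact Submodule.smul_mem _ _ hz
  | down m z _ hz =>
    refine Submodule.span_mono ?_ hz
    rintro _ ⟨r, J, a, x, hm, hx, rfl⟩
    exact ⟨r, J, a, x, by omega, hx, rfl⟩

variable {R : Type u} [CommRing R] [Algebra R P] (w : Module.Dual P (ι → P))
  (hw : ∀ b v, v ∈ (wtFil F wt).G b → w v ∈ F.F b) (k : ℕ)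

/-- the generators of the Koszul complex -/
noncomputable def kozGen : Gen (kozFD (R := R) F (wtFil F wt) w hw k) ι where
  wt := wt
  e r J := (filA F (wtFil F wt) (k + 1)).mkQ (eA P J)
  mem r J := ⟨eA P J, isF_eA F wt J, rfl⟩
  span m := by
    rintro _ ⟨z, hz, rfl⟩
    have h1 := mem_span_of_isF F wt hz
    have h2 := Submodule.mem_map_of_mem (f := (filA F (wtFil F wt) (k + 1)).mkQ) h1
    rw [Submodule.map_span] at h2
    refine Submodule.span_mono ?_ h2
    rintro _ ⟨_, ⟨r, J, a, x, hm, hx, rfl⟩, rfl⟩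
    exact ⟨r, J, a, x, hm, hx, rfl⟩

end Ext

section Sym

variable {R : Type u} [CommRing R] {P P' : Type u} [CommRing P] [Algebra R P] [CommRing P']
  [Algebra R P'] {F : MFil P} {F' : MFil P'} {ι : Type} [Fintype ι] [DecidableEq ι]
  {wt : ι → ℕ}

theorem kmap_eA (φ : P →+* P') (ε : (ι → P) →ₛₗ[φ] (ι → P')) {r : ℕ} (J : Fin r → ι) :
    kmap φ ε (eA P J) = ExteriorAlgebra.ιMulti P' r fun i => ε (Pi.single (J i) 1) := by
  induction r with
  | zero => rw [eA_zero, map_one, ExteriorAlgebra.ιMulti_apply]; rfl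
  | succ r ih =>
    rw [← Fin.cons_self_tail J, eA_succ, map_mul, kmap_ι, ih, ExteriorAlgebra.ιMulti_succ_apply]
    rfl

theorem kmap_cmap_eA (φ : P →+* P') {r : ℕ} (J : Fin r → ι) : kmap φ (cmap ι φ) (eA P J) = eA P' J := by
  rw [kmap_eA, eA]
  congr 1
  funext i
  funext j
  change φ ((Pi.single (J i) 1 : ι → P) j) = _
  by_cases h : j = J i
  · subst h; simp
  · simp [h]

theorem ιMulti_mat (N : Matrix ι ι R) {r : ℕ} (J : Fin r → ι) :
    (ExteriorAlgebra.ιMulti P' r fun i => (fun j => algebraMap R P' (N j (J i)) : ι → P')) =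
      ∑ J' : Fin r → ι, coef N J' J • eA P' J' := by
  have e1 : (fun i => (fun j => algebraMap R P' (N j (J i)) : ι → P')) =
      fun i : Fin r => ∑ j : ι, algebraMap R P' (N j (J i)) • (Pi.single j 1 : ι → P') := by
    funext i
    conv_lhs => rw [sum_single' (fun j => algebraMap R P' (N j (J i)) : ι → P')]
  rw [e1]
  have e2 := MultilinearMap.map_sum (ExteriorAlgebra.ιMulti P' r (M := ι → P')).toMultilinearMap
    (fun (i : Fin r) (j : ι) => algebraMap R P' (N j (J i)) • (Pi.single j 1 : ι → P'))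
  refine e2.trans ?_
  refine Finset.sum_congr rfl fun J' _ => ?_
  rw [MultilinearMap.map_smul_univ, ← map_prod, algebraMap_smul]
  rfl

/-- the symbol of a lift on the exterior algebra -/
theorem kmap_eA_sub_mem (φ : P →+* P') (ε : (ι → P) →ₛₗ[φ] (ι → P')) (N : Matrix ι ι R) (hN : WtP wt N)
    (hφ : ∀ m x, x ∈ F.F m → φ x ∈ F'.F m)
    (hε : ∀ i, ε (Pi.single i 1) - (fun j => algebraMap R P' (N j i)) ∈ (wtFil F' wt).G (wt i + 1))
    {r : ℕ} (J : Fin r → ι) :
    kmap φ ε (eA P J) - ∑ J' : Fin r → ι, coef N J' J • eA P' J' ∈ filA F' (wtFil F' wt) (∑ i, wt (J i) + 1) := by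
  let η : (ι → P) →ₛₗ[φ] (ι → P') := (matL N).comp (cmap ι φ)
  have hcs : ∀ i, cmap ι φ (Pi.single i 1) = Pi.single i 1 := by
    intro i
    funext j
    change φ ((Pi.single i 1 : ι → P) j) = _
    by_cases h : j = i
    · subst h; simp
    · simp [h]
  have hη1 : ∀ i, η (Pi.single i 1) = fun j => algebraMap R P' (N j i) := by
    intro i
    change matL N (cmap ι φ (Pi.single i 1)) = _
    rw [hcs]
    funext j
    simp [matL_apply, Pi.single_apply]
  have hη : ∀ m v, v ∈ (wtFil F wt).G m → η v ∈ (wtFil F' wt).G m := by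
    intro m v hv
    exact matL_mem N (fun i j h => hN i j h) (fun i => hφ _ _ (hv i))
  have hsub : ∀ m v, v ∈ (wtFil F wt).G m → ε v - η v ∈ (wtFil F' wt).G (m + 1) := by
    intro m v hv
    have e : ε v - η v = ∑ i, φ (v i) • (ε (Pi.single i 1) - η (Pi.single i 1)) := by
      have h1 : ε v = ∑ i, φ (v i) • ε (Pi.single i 1) := by
        conv_lhs => rw [sum_single' v]
        rw [map_sum]
        exact Finset.sum_congr rfl fun i _ => ε.map_smulₛₗ _ _
      have h2 : η v = ∑ i, φ (v i) • η (Pi.single i 1) := by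
        conv_lhs => rw [sum_single' v]
        rw [map_sum]
        exact Finset.sum_congr rfl fun i _ => η.map_smulₛₗ _ _
      rw [h1, h2, ← Finset.sum_sub_distrib]
      exact Finset.sum_congr rfl fun i _ => by rw [smul_sub]
    rw [e]
    refine Submodule.sum_mem _ fun i _ => ?_
    have h3 := hε i
    rw [← hη1 i] at h3
    have := (wtFil F' wt).smul _ _ _ _ (hφ _ _ (hv i)) h3
    intro j
    exact F'.le (by omega) (this j)
  have hε' : ∀ m v, v ∈ (wtFil F wt).G m → ε v ∈ (wtFil F' wt).G m := by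
    intro m v hv
    have := Submodule.add_mem _ (hη m v hv) ((wtFil F' wt).succ m (hsub m v hv))
    rwa [add_sub_cancel] at this
  have h1 := kmap_eA (P' := P') φ η J
  have h2 : (fun i => η (Pi.single (J i) 1)) = fun i : Fin r => (fun j => algebraMap R P' (N j (J i)) : ι → P') := by
    funext i
    exact hη1 _
  rw [h2, ιMulti_mat] at h1
  rw [← h1]
  -- the same ring homomorphism: `kmap_sub_mem` needs `φ` to be close to itself
  have hφφ : ∀ m x, x ∈ F.F m → φ x - φ x ∈ F'.F (m + 1) := fun m x _ => by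
    rw [sub_self]; exact (F'.F _).zero_mem
  exact kmap_sub_mem φ φ ε η hφ hε' hη hφφ hsub (isF_eA F wt J)

end Sym

end Groth.Agent.ResProp.EF.K379
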