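import Groth.Agent.ResProp.EF.K379.Lifts
import Groth.Agent.ResProp.EF.K863.LPFlat
import Groth.Agent.ResProp.EF.K280.Pkg

/-!
# The `LiftData` of a model with symbols, and its algebra package
-/

set_option autoImplicit false
set_option linter.unusedSectionVars false
set_option linter.style.haveILetI false
set_option linter.unusedVariables false

universe u

namespace Groth.Agent.ResProp.EF.K379

open Groth.Agent.ResProp.EF.K734 Groth.Agent.ResProp.EF.K280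
open Groth.Agent.ResProp.EF.K863 (Model datAlg)
open Groth.Agent.ResProp.EF.K980 (PGpd AlgPkg BC)
open Groth.Agent.ResProp.EF.K454 (mfQ gen_all)

variable {R : Type u} [CommRing R] {D : Type u} [CommRing D] [Algebra R D] {V : Type u} [AddCommGroup V]
  [Module D V] [Module R V] [IsScalarTower R D V] {ρ : V →ₗ[D] Ω[D⁄R]} {m : Model R D V ρ} {k : ℕ} {hn : 2 ≤ k + 1}
  {e : ℕ} {wt : Fin e → ℕ} {u : Fin e → m.PP}

/-- `dualOf u` is onto `Fil n`, `n ≥ 1`, in the truncation -/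
theorem surjQ (h1 : ∀ i, 1 ≤ wt i) (h2 : ∀ i, wt i ≤ 2)
    (hg : ∀ n, n = 1 ∨ n = 2 → ∀ x ∈ m.Fil n, ∃ b : Fin e → m.PP, (∀ j, b j ∈ m.Fil (n - wt j)) ∧
      x - ∑ j, u j * b j ∈ m.Fil (n + 1)) (k : ℕ) :
    ∀ n, 1 ≤ n → ∀ x, x ∈ (mfQ m (k + 1)).F n → ∃ v ∈ (wtFil (mfQ m (k + 1)) wt).G n, dualOf (uQ m u k) v = x := by
  refine surj_of_gr (mfQ m (k + 1)) wt (N := k + 1) (m.FilQ_self le_rfl) fun n hn x hx => ?_
  obtain ⟨z, hz, rfl⟩ := Model.mem_FilQ.1 hx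
  obtain ⟨b, hb, hb'⟩ := gen_all m wt h1 h2 u hg n hn z hz
  refine ⟨fun j => Ideal.Quotient.mk _ (b j), fun j => Model.mem_FilQ.2 ⟨b j, hb j, rfl⟩, ?_⟩
  refine Model.mem_FilQ.2 ⟨_, hb', ?_⟩
  rw [map_sub, map_sum, dualOf_apply]
  congr 1
  exact Finset.sum_congr rfl fun j _ => by rw [map_mul, mul_comm]; rfl

variable {G : PGpd.{u} R} (W : SymData m hn wt u G) (hu : ∀ i, u i ∈ m.Fil (wt i))

/-- **(P7)**: the input of helper280's `LiftData.toPkg` -/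
noncomputable def liftData (h1 : ∀ i, 1 ≤ wt i) (h2 : ∀ i, wt i ≤ 2)
    (hg : ∀ n, n = 1 ∨ n = 2 → ∀ x ∈ m.Fil n, ∃ b : Fin e → m.PP, (∀ j, b j ∈ m.Fil (n - wt j)) ∧
      x - ∑ j, u j * b j ∈ m.Fil (n + 1)) : LiftData G where
  e := e
  X := kozX m wt u hu k
  finP := (inferInstance : Algebra.FiniteType R (m.Q (k + 1)))
  finK := (inferInstance : Module.Finite (m.Q (k + 1)) (KozK (mfQ m (k + 1)) (wtFil _ wt) k))
  D := D
  π := SymData.π m hn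
  π_surj := m.fQ_surjective _
  π_ker p hp := (m.fQ_eq_zero_iff _).1 hp
  pr_idem i v := LinearMap.congr_fun (koz_pr_idem (R := R) (mfQ m (k + 1)) (wtFil _ wt) (dualOf (uQ m u k))
    (dualOf_mem _ wt (uQ_mem m wt u hu)) k i) v
  pr_orth i j hij v := LinearMap.congr_fun (koz_pr_orth (R := R) (mfQ m (k + 1)) (wtFil _ wt) (dualOf (uQ m u k))
    (dualOf_mem _ wt (uQ_mem m wt u hu)) k i j hij) v
  pr_sum := koz_pr_sum (R := R) (mfQ m (k + 1)) (wtFil _ wt) (dualOf (uQ m u k))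
    (dualOf_mem _ wt (uQ_mem m wt u hu)) k
  d_pr := koz_d_pr (R := R) (mfQ m (k + 1)) (wtFil _ wt) (dualOf (uQ m u k))
    (dualOf_mem _ wt (uQ_mem m wt u hu)) k
  d_pr_zero := koz_d_pr_zero (R := R) (mfQ m (k + 1)) (wtFil _ wt) (dualOf (uQ m u k))
    (dualOf_mem _ wt (uQ_mem m wt u hu)) k
  d_d := koz_d_d (R := R) (mfQ m (k + 1)) (wtFil _ wt) (dualOf (uQ m u k))
    (dualOf_mem _ wt (uQ_mem m wt u hu)) k
  eta := (datAlg m).comap W.F
  S a := W.S hu a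
  S_ne a hx hy := W.S_ne hu (fun x hx => ⟨K863.bcModel m hn hx⟩) (surjQ h1 h2 hg k) a hx hy
  S_refl x _ := W.S_refl hu x
  S_trans a b _ _ _ _ hs _ ht := W.S_trans hu a b hs ht
  S_symm a _ _ _ hs := W.S_symm hu a hs
  S_bc f _ _ _ _ hx hy a _ _ _ _ _ hs := W.S_bc hu f hx hy a hs
  S_eta a _ _ _ hs q := W.S_eta hu a hs q
  S_close x hx _ hs := W.S_close hu (fun x hx => ⟨K863.bcModel m hn hx⟩) x hx hs

/-- the algebra package of a model with symbols -/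
noncomputable def algPkg [IsNoetherianRing R] (h1 : ∀ i, 1 ≤ wt i) (h2 : ∀ i, wt i ≤ 2)
    (hg : ∀ n, n = 1 ∨ n = 2 → ∀ x ∈ m.Fil n, ∃ b : Fin e → m.PP, (∀ j, b j ∈ m.Fil (n - wt j)) ∧
      x - ∑ j, u j * b j ∈ m.Fil (n + 1)) : AlgPkg G := (liftData W hu h1 h2 hg).toPkg

end Groth.Agent.ResProp.EF.K379
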