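import Groth.Agent.ResProp.EF.K379.Exist
import Groth.Agent.ResProp.EF.K863.Dat
import Groth.Agent.ResProp.EF.K280.ToPkg
import Groth.Agent.ResProp.EF.K980.Comap
import Groth.Agent.ResProp.EF.K454.KosModel
import Groth.Agent.ResProp.EF.K734.KozNum

/-!
# (P7), the sets `S a` of lifts of the arrows to the truncated Koszul complex of a model

`SymData m hn wt u G` : a groupoid of points `G` acting on the datum `(D, V, ρ)` and on the symbols of the `u i` by
weight preserving matrices.  `SymData.S` : the lifts; the fields `S_ne, S_refl, S_trans, S_symm, S_bc, S_eta, S_close` of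
`K280.LiftData`.
-/

set_option autoImplicit false
set_option linter.unusedSectionVars false
set_option linter.style.haveILetI false

universe u

namespace Groth.Agent.ResProp.EF.K379

open Groth.Agent.ResProp.EF.K734 Groth.Agent.ResProp.EF.K280
open Groth.Agent.ResProp.EF.K863 (Model IsoDat datGpd datAlg LP LP_refl LP_trans LP_symm LP_pull FilBC fB fB_bc pullA
  pullA_bc algEquiv_ext BCModel LP_mem_of LP_sub_mem_two_of LP_sub_mem_of)
open Groth.Agent.ResProp.EF.K980 (PGpd EqAlg BC subBC)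
open Groth.Agent.ResProp.EF.K454 (mfQ)

/-- reindexing of the operators -/
def Gen.re {R : Type u} [CommRing R] {I I' : Type} {ι : Type} [Fintype ι] [DecidableEq ι] {X : FD R I} (G : Gen X ι)
    (g : I' → I) : Gen (X.re g) ι where
  wt := G.wt
  e := G.e
  mem := G.mem
  span := G.span

section FilBC

variable {R : Type u} [CommRing R] {I : Type} (X : FD R I) {R' : Type u} [CommRing R'] (x : R →+* R')

/-- the identity -/
def ofE (v : (K280.bc X x).P) : BC x X.P := v

/-- the filtration of `BC x X.P` in the language of `bc` -/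
theorem mem_subBC_P (p : ℕ) (q : BC x X.P) :
    q ∈ subBC x ((X.Fil p).restrictScalars R) ↔ toP X x q ∈ (K280.bc X x).Fil p := by
  constructor
  · rintro ⟨w, rfl⟩
    induction w using BC.ind with
    | h0 => rw [map_zero]; exact Ideal.zero_mem _
    | h1 r w =>
      rw [LinearMap.map_smul, BC.map_bc, toP_smul, Algebra.smul_def]
      exact Ideal.mul_mem_left _ _ (canP_mem X x w.2)
    | h2 a b ha hb => rw [map_add]; exact Ideal.add_mem _ ha hb
  · intro hq
    rw [Fil_bc, Ideal.map] at hq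
    suffices H : ∀ b : (K280.bc X x).P, ofE X x (b * toP X x q) ∈ subBC x ((X.Fil p).restrictScalars R) by
      have := H 1
      rw [one_mul] at this
      exact this
    refine Submodule.span_induction (p := fun v _ => ∀ b : (K280.bc X x).P, ofE X x (b * v) ∈
        subBC x ((X.Fil p).restrictScalars R)) ?_ ?_ ?_ ?_ hq
    · rintro _ ⟨a, ha, rfl⟩ b
      induction b using indP with
      | h0 => rw [zero_mul]; exact Submodule.zero_mem _
      | h2 b c hb hc => rw [add_mul]; exact Submodule.add_mem _ hb hc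
      | h1 r c =>
        rw [smul_mul_assoc, ← map_mul]
        refine ⟨r • K980.bc x (⟨c * a, (X.Fil p).mul_mem_left c ha⟩ : (X.Fil p).restrictScalars R), ?_⟩
        rw [LinearMap.map_smul, BC.map_bc]
        rfl
    · intro b; rw [mul_zero]; exact Submodule.zero_mem _
    · intro v w _ _ hv hw b
      rw [mul_add]; exact Submodule.add_mem _ (hv b) (hw b)
    · intro c v _ hv b
      rw [smul_eq_mul, ← mul_assoc]; exact hv _

end FilBC

section

variable {R : Type u} [CommRing R] {D : Type u} [CommRing D] [Algebra R D] {V : Type u} [AddCommGroup V]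
  [Module D V] [Module R V] [IsScalarTower R D V] {ρ : V →ₗ[D] Ω[D⁄R]} (m : Model R D V ρ) {k : ℕ} (hn : 2 ≤ k + 1)
  {e : ℕ} (wt : Fin e → ℕ) (u : Fin e → m.PP)

/-- the classes of the elements `u i` -/
noncomputable def uQ (k : ℕ) (i : Fin e) : m.Q (k + 1) := Ideal.Quotient.mk (m.Fil (k + 1)) (u i)

theorem uQ_mem (hu : ∀ i, u i ∈ m.Fil (wt i)) (i : Fin e) : uQ m u k i ∈ (mfQ m (k + 1)).F (wt i) :=
  Model.mem_FilQ.2 ⟨u i, hu i, rfl⟩

/-- the truncated Koszul complex of the model, with `e + 1` projections -/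
noncomputable abbrev kozX (hu : ∀ i, u i ∈ m.Fil (wt i)) (k : ℕ) : FD R (Option (Fin (e + 1))) :=
  kozC (R := R) (mfQ m (k + 1)) (wtFil _ wt) (dualOf (uQ m u k)) (dualOf_mem _ wt (uQ_mem m wt u hu)) k

/-- A groupoid of points `G` with a functor to the isomorphisms of the datum and with symbols. -/
structure SymData (G : PGpd.{u} R) where
  /-- the functor -/
  F : PGpd.Fun G (datGpd m)
  /-- the symbol -/
  N : ∀ {R' : Type u} [CommRing R'] {x y : R →+* R'}, G.Hom x y → Matrix (Fin e) (Fin e) R'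
  N_id : ∀ {R' : Type u} [CommRing R'] (x : R →+* R'), N (G.id x) = 1
  N_comp : ∀ {R' : Type u} [CommRing R'] {x y z : R →+* R'} (a : G.Hom x y) (b : G.Hom y z),
    N (G.comp a b) = N b * N a
  N_pull : ∀ {R' R'' : Type u} [CommRing R'] [CommRing R''] (f : R' →+* R'') {x y : R →+* R'} {x' y' : R →+* R''}
    (hx : f.comp x = x') (hy : f.comp y = y') (a : G.Hom x y), N (G.pull f hx hy a) = (N a).map f
  N_wt : ∀ {R' : Type u} [CommRing R'] {x y : R →+* R'} (a : G.Hom x y), WtP wt (N a)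
  N_gr : ∀ {R' : Type u} [CommRing R'] {x y : R →+* R'} (a : G.Hom x y), x.Flat → y.Flat →
    ∃ φ ∈ LP m hn (F.app a), ∀ i, φ (K980.bc x (uQ m u k i)) - ∑ j, N a j i • K980.bc y (uQ m u k j) ∈
      FilBC m y (wt i + 1)

variable {m hn wt u} {G : PGpd.{u} R} (W : SymData m hn wt u G) (hu : ∀ i, u i ∈ m.Fil (wt i))

/-- an isomorphism of rings in the language of `BC` -/
def ofP {R' : Type u} [CommRing R'] {x y : R →+* R'}
    (φ : (K280.bc (kozX m wt u hu k) x).P ≃ₐ[R'] (K280.bc (kozX m wt u hu k) y).P) :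
    BC x (m.Q (k + 1)) ≃ₐ[R'] BC y (m.Q (k + 1)) := φ

/-- an isomorphism of rings in the language of `bc` -/
def toPE {R' : Type u} [CommRing R'] {x y : R →+* R'} (φ : BC x (m.Q (k + 1)) ≃ₐ[R'] BC y (m.Q (k + 1))) :
    (K280.bc (kozX m wt u hu k) x).P ≃ₐ[R'] (K280.bc (kozX m wt u hu k) y).P := φ

variable (m wt u k) in
/-- the generators -/
noncomputable def genX : Gen (kozX m wt u hu k) (Fin e) :=
  (kozGen (R := R) (mfQ m (k + 1)) wt (dualOf (uQ m u k)) (dualOf_mem _ wt (uQ_mem m wt u hu)) k).re (gidx e)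

theorem mem_FilBC {R' : Type u} [CommRing R'] (x : R →+* R') (p : ℕ) (q : BC x (m.Q (k + 1))) :
    q ∈ FilBC m x p ↔ toP (kozX m wt u hu k) x q ∈ (K280.bc (kozX m wt u hu k) x).Fil p :=
  mem_subBC_P (kozX m wt u hu k) x p q

namespace SymData

/-- **the lifts of an arrow** -/
def S {R' : Type u} [CommRing R'] {x y : R →+* R'} (a : G.Hom x y) :
    Set (FD.SIso (K280.bc (kozX m wt u hu k) x) (K280.bc (kozX m wt u hu k) y)) :=
  {s | ofP hu s.φ ∈ LP m hn (W.F.app a) ∧ near (genX m k wt u hu) (W.N a) s}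

theorem S_refl {R' : Type u} [CommRing R'] (x : R →+* R') :
    FD.SIso.refl (K280.bc (kozX m wt u hu k) x) ∈ W.S hu (G.id x) := by
  refine ⟨?_, ?_⟩
  · rw [W.F.app_id]
    exact LP_refl x
  · rw [W.N_id]
    exact near_refl

theorem S_trans {R' : Type u} [CommRing R'] {x y z : R →+* R'} (a : G.Hom x y) (b : G.Hom y z)
    {s : FD.SIso (K280.bc (kozX m wt u hu k) x) (K280.bc (kozX m wt u hu k) y)} (hs : s ∈ W.S hu a)
    {t : FD.SIso (K280.bc (kozX m wt u hu k) y) (K280.bc (kozX m wt u hu k) z)} (ht : t ∈ W.S hu b) :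
    s.trans t ∈ W.S hu (G.comp a b) := by
  refine ⟨?_, ?_⟩
  · rw [W.F.app_comp]
    exact LP_trans hs.1 ht.1
  · rw [W.N_comp]
    exact near_trans (W.N_wt a) hs.2 ht.2

theorem N_inv {R' : Type u} [CommRing R'] {x y : R →+* R'} (a : G.Hom x y) : W.N a * W.N (G.inv a) = 1 := by
  rw [← W.N_comp, G.inv_comp, W.N_id]

theorem N_inv' {R' : Type u} [CommRing R'] {x y : R →+* R'} (a : G.Hom x y) : W.N (G.inv a) * W.N a = 1 := by
  rw [← W.N_comp, G.comp_inv, W.N_id]

theorem S_symm {R' : Type u} [CommRing R'] {x y : R →+* R'} (a : G.Hom x y)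
    {s : FD.SIso (K280.bc (kozX m wt u hu k) x) (K280.bc (kozX m wt u hu k) y)} (hs : s ∈ W.S hu a) :
    s.symm ∈ W.S hu (G.inv a) := by
  refine ⟨?_, ?_⟩
  · rw [W.F.app_inv]
    exact LP_symm hs.1
  · exact near_symm (W.N_wt _) (W.N_inv a) hs.2

theorem S_bc {R' R'' : Type u} [CommRing R'] [CommRing R''] (f : R' →+* R'') {x y : R →+* R'} {x' y' : R →+* R''}
    (hx : f.comp x = x') (hy : f.comp y = y') (a : G.Hom x y)
    {s : FD.SIso (K280.bc (kozX m wt u hu k) x) (K280.bc (kozX m wt u hu k) y)} (hs : s ∈ W.S hu a) :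
    SIso.bc f hx hy s ∈ W.S hu (G.pull f hx hy a) := by
  refine ⟨?_, ?_⟩
  · rw [W.F.app_pull]
    have h1 : ofP hu (SIso.bc f hx hy s).φ = pullA f hx hy (ofP hu s.φ) := by
      refine algEquiv_ext fun q => ?_
      rw [pullA_bc]
      have h2 : bcPEquiv f hx hy s.φ (trP (kozX m wt u hu k) f hx (canP (kozX m wt u hu k) x q)) =
          trP (kozX m wt u hu k) f hy (s.φ (canP (kozX m wt u hu k) x q)) := bcPEquiv_trP f hx hy s.φ _
      rw [trP_canP] at h2
      refine h2.trans ?_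
      exact (trP_eq (kozX m wt u hu k) f hy (show BC y (m.Q (k + 1)) from s.φ (canP (kozX m wt u hu k) x q))).symm
    rw [h1]
    exact LP_pull hx hy hs.1
  · rw [W.N_pull]
    exact near_bc f hx hy hs.2

/-- the projection to `D` -/
noncomputable def π (m : Model R D V ρ) {k : ℕ} (hn : 2 ≤ k + 1) : m.Q (k + 1) →ₐ[R] D := m.fQ (one_le_two.trans hn)

theorem S_eta {R' : Type u} [CommRing R'] {x y : R →+* R'} (a : G.Hom x y)
    {s : FD.SIso (K280.bc (kozX m wt u hu k) x) (K280.bc (kozX m wt u hu k) y)} (hs : s ∈ W.S hu a)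
    (q : BC x (m.Q (k + 1))) :
    ((datAlg m).comap W.F).act a (BC.map x (π m hn).toLinearMap q) =
      BC.map y (π m hn).toLinearMap (ofP hu s.φ q) := by
  have h1 := hs.1.f_eq q
  rw [fB, fB, BC.mapAlg_eq_map, BC.mapAlg_eq_map] at h1
  exact h1.symm

section flat

variable (hBC : ∀ {R' : Type u} [CommRing R'] (x : R →+* R'), x.Flat → Nonempty (BCModel m hn x (K964.rhoBC x ρ)))

include hBC

/-- two lifts of an arrow are close -/
theorem S_sub {R' : Type u} [CommRing R'] {x y : R →+* R'} (a : G.Hom x y) (hx : x.Flat) (hy : y.Flat)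
    {s t : FD.SIso (K280.bc (kozX m wt u hu k) x) (K280.bc (kozX m wt u hu k) y)} (hs : s ∈ W.S hu a)
    (ht : t ∈ W.S hu a) :
    (∀ p, s.φ p - t.φ p ∈ (K280.bc (kozX m wt u hu k) y).Fil 2) ∧
      ∀ p v, v ∈ (K280.bc (kozX m wt u hu k) x).FilK p → s.ψ v - t.ψ v ∈ (K280.bc (kozX m wt u hu k) y).FilK (p + 1) := by
  obtain ⟨Mx⟩ := hBC x hx
  obtain ⟨My⟩ := hBC y hy
  refine ⟨fun p => ?_, near_sub hs.2 ht.2 fun p q hq => ?_⟩
  · exact (mem_FilBC hu y 2 _).1 (LP_sub_mem_two_of Mx My hs.1 ht.1 p)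
  · exact (mem_FilBC hu y (p + 1) _).1 (LP_sub_mem_of Mx My hs.1 ht.1 ((mem_FilBC hu x p q).2 hq))

theorem S_close {R' : Type u} [CommRing R'] (x : R →+* R') (hx : x.Flat)
    {s : FD.SIso (K280.bc (kozX m wt u hu k) x) (K280.bc (kozX m wt u hu k) x)} (hs : s ∈ W.S hu (G.id x)) :
    (∀ p, s.φ p - p ∈ (K280.bc (kozX m wt u hu k) x).Fil 2) ∧
      ∀ p v, v ∈ (K280.bc (kozX m wt u hu k) x).FilK p → s.ψ v - v ∈ (K280.bc (kozX m wt u hu k) x).FilK (p + 1) :=
  W.S_sub hu hBC (G.id x) hx hx hs (W.S_refl hu x)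

theorem S_ne (hsurj : ∀ n, 1 ≤ n → ∀ x, x ∈ (mfQ m (k + 1)).F n → ∃ v ∈ (wtFil (mfQ m (k + 1)) wt).G n,
      dualOf (uQ m u k) v = x)
    {R' : Type u} [CommRing R'] {x y : R →+* R'} (a : G.Hom x y) (hx : x.Flat) (hy : y.Flat) :
    (W.S hu a).Nonempty := by
  obtain ⟨Mx⟩ := hBC x hx
  obtain ⟨My⟩ := hBC y hy
  obtain ⟨φ, hφ, hgr⟩ := W.N_gr a hx hy
  have hbot : (mfQ m (k + 1)).F (k + 1) = ⊥ := m.FilQ_self le_rfl
  have hφ' : φ.symm ∈ LP m hn (W.F.app a).symm := LP_symm hφ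
  obtain ⟨s, hs, hsN⟩ := exists_near (R := R) (mfQ m (k + 1)) wt (uQ m u k) (uQ_mem m wt u hu) k x y hbot hsurj
    (toPE hu φ) (fun p q hq => (mem_FilBC hu y p _).1 (LP_mem_of Mx My hφ ((mem_FilBC hu x p q).2 hq)))
    (fun p q hq => (mem_FilBC hu x p _).1 (LP_mem_of My Mx hφ' ((mem_FilBC hu y p q).2 hq)))
    (W.N a) (W.N (G.inv a)) (W.N_inv a) (W.N_inv' a) (W.N_wt a) (W.N_wt _)
    (fun i => (mem_FilBC hu y (wt i + 1) _).1 (hgr i))
  refine ⟨s.re (gidx e), ?_, ?_⟩
  · change ofP hu s.φ ∈ _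
    rw [hs]
    exact hφ
  · exact hsN

end flat

end SymData

end

end Groth.Agent.ResProp.EF.K379
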