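import Groth.Agent.ResProp.EF.K280.FDbc

/-!
# Lifts with a given symbol (P7 of the producer side)

`Gen X ι` : the filtration of `X.K` is generated by elements `e r J` (`J : Fin r → ι`) of weight `∑ wt (J i)`.
`near G N s` : the semilinear isomorphism `s : bc X f ≅ bc X f'` has symbol `N` on the elements `e r J`.
`near` is closed under composition, inverses and base change; two `s` with the same symbol are close.
-/

set_option autoImplicit false
set_option linter.unusedSectionVars false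

universe u

namespace Groth.Agent.ResProp.EF.K379

open Groth.Agent.ResProp.EF.K734 Groth.Agent.ResProp.EF.K280

variable {R : Type u} [CommRing R] {I : Type} {ι : Type} [Fintype ι] [DecidableEq ι]

/-- generators of the filtered module `X.K` -/
structure Gen (X : FD R I) (ι : Type) [Fintype ι] [DecidableEq ι] where
  /-- the weights -/
  wt : ι → ℕ
  /-- the generators -/
  e : ∀ r : ℕ, (Fin r → ι) → X.K
  mem : ∀ r (J : Fin r → ι), e r J ∈ X.FilK (∑ i, wt (J i))
  span : ∀ m, X.FilK m ≤ Submodule.span X.P {v | ∃ (r : ℕ) (J : Fin r → ι) (a : ℕ) (x : X.P),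
    m ≤ a + ∑ i, wt (J i) ∧ x ∈ X.Fil a ∧ v = x • e r J}

/-- a matrix which preserves the weights -/
def WtP {S : Type*} [Zero S] (wt : ι → ℕ) (N : Matrix ι ι S) : Prop := ∀ i j, N i j ≠ 0 → wt i = wt j

/-- the coefficient of the symbol -/
def coef {S : Type*} [CommRing S] (N : Matrix ι ι S) {r : ℕ} (J' J : Fin r → ι) : S := ∏ i, N (J' i) (J i)

section coef

variable {S : Type*} [CommRing S]

theorem coef_ne {wt : ι → ℕ} {N : Matrix ι ι S} (hN : WtP wt N) {r : ℕ} {J' J : Fin r → ι} (h : coef N J' J ≠ 0) :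
    ∑ i, wt (J' i) = ∑ i, wt (J i) := by
  refine Finset.sum_congr rfl fun i _ => hN _ _ fun h0 => h ?_
  exact Finset.prod_eq_zero (Finset.mem_univ i) h0

theorem coef_one {r : ℕ} (J' J : Fin r → ι) : coef (1 : Matrix ι ι S) J' J = if J' = J then 1 else 0 := by
  unfold coef
  by_cases h : J' = J
  · subst h; simp
  · rw [if_neg h]
    obtain ⟨i, hi⟩ := Function.ne_iff.1 h
    exact Finset.prod_eq_zero (Finset.mem_univ i) (Matrix.one_apply_ne hi)

theorem coef_mul (M N : Matrix ι ι S) {r : ℕ} (J'' J : Fin r → ι) :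
    coef (M * N) J'' J = ∑ J' : Fin r → ι, coef M J'' J' * coef N J' J := by
  unfold coef
  simp only [Matrix.mul_apply]
  rw [Finset.prod_univ_sum, Fintype.piFinset_univ]
  exact Finset.sum_congr rfl fun J' _ => Finset.prod_mul_distrib

theorem coef_map {T : Type*} [CommRing T] (g : S →+* T) (N : Matrix ι ι S) {r : ℕ} (J' J : Fin r → ι) :
    coef (N.map g) J' J = g (coef N J' J) := by
  unfold coef
  rw [map_prod]
  rfl

theorem WtP.one (wt : ι → ℕ) : WtP wt (1 : Matrix ι ι S) := fun i j h => by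
  by_contra hne
  exact h (Matrix.one_apply_ne fun hij => hne (by rw [hij]))

theorem WtP.mul {wt : ι → ℕ} {M N : Matrix ι ι S} (hM : WtP wt M) (hN : WtP wt N) : WtP wt (M * N) := fun i j h => by
  rw [Matrix.mul_apply] at h
  obtain ⟨l, _, hl⟩ := Finset.exists_ne_zero_of_sum_ne_zero h
  exact (hM i l (left_ne_zero_of_mul hl)).trans (hN l j (right_ne_zero_of_mul hl))

theorem WtP.map {wt : ι → ℕ} {N : Matrix ι ι S} (hN : WtP wt N) {T : Type*} [CommRing T] (g : S →+* T) :
    WtP wt (N.map g) := fun i j h => hN i j fun h0 => h (by rw [Matrix.map_apply, h0, map_zero])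

end coef

section near

variable {X : FD R I} (G : Gen X ι) {R₁ : Type u} [CommRing R₁] {f f' f'' : R →+* R₁}

/-- the pulled back generators -/
noncomputable def Gen.ef (f : R →+* R₁) {r : ℕ} (J : Fin r → ι) : (bc X f).K := canK X f (G.e r J)

theorem Gen.ef_mem (f : R →+* R₁) {r : ℕ} (J : Fin r → ι) : G.ef f J ∈ (bc X f).FilK (∑ i, G.wt (J i)) :=
  canK_mem X f (G.mem r J)

/-- `s` has symbol `N` -/
def near (N : Matrix ι ι R₁) (s : FD.SIso (bc X f) (bc X f')) : Prop := ∀ (r : ℕ) (J : Fin r → ι),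
  s.ψ (G.ef f J) - ∑ J' : Fin r → ι, coef N J' J • G.ef f' J' ∈ (bc X f').FilK (∑ i, G.wt (J i) + 1)

variable {G}

theorem near_refl : near G (1 : Matrix ι ι R₁) (FD.SIso.refl (bc X f)) := by
  intro r J
  have e1 : ∑ J' : Fin r → ι, coef (1 : Matrix ι ι R₁) J' J • G.ef f J' = G.ef f J := by
    rw [Finset.sum_eq_single J]
    · rw [coef_one, if_pos rfl, one_smul]
    · intro J' _ h
      rw [coef_one, if_neg h, zero_smul]
    · intro h; exact absurd (Finset.mem_univ J) h
  rw [e1]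
  change G.ef f J - G.ef f J ∈ _
  rw [sub_self]
  exact Submodule.zero_mem _

/-- the key computation -/
theorem near_comp_aux {M N : Matrix ι ι R₁} (hN : WtP G.wt N)
    (ψ : (bc X f').K →ₗ[R₁] (bc X f'').K)
    (h : ∀ (r : ℕ) (J : Fin r → ι),
      ψ (G.ef f' J) - ∑ J' : Fin r → ι, coef M J' J • G.ef f'' J' ∈ (bc X f'').FilK (∑ i, G.wt (J i) + 1))
    (r : ℕ) (J : Fin r → ι) :
    ψ (∑ J' : Fin r → ι, coef N J' J • G.ef f' J') - ∑ J' : Fin r → ι, coef (M * N) J' J • G.ef f'' J' ∈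
      (bc X f'').FilK (∑ i, G.wt (J i) + 1) := by
  have e1 : ∑ J'' : Fin r → ι, coef (M * N) J'' J • G.ef f'' J'' =
      ∑ J' : Fin r → ι, coef N J' J • ∑ J'' : Fin r → ι, coef M J'' J' • G.ef f'' J'' := by
    simp only [Finset.smul_sum]
    rw [Finset.sum_comm]
    refine Finset.sum_congr rfl fun J'' _ => ?_
    rw [coef_mul, Finset.sum_smul]
    exact Finset.sum_congr rfl fun J' _ => by rw [smul_smul, mul_comm]
  rw [e1, map_sum, ← Finset.sum_sub_distrib]
  refine Submodule.sum_mem _ fun J' _ => ?_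
  rw [map_smul, ← smul_sub]
  by_cases h0 : coef N J' J = 0
  · rw [h0, zero_smul]; exact Submodule.zero_mem _
  · have h1 := h r J'
    rw [coef_ne hN h0] at h1
    exact smulR_mem X _ h1

theorem near_trans {N N' : Matrix ι ι R₁} (hN : WtP G.wt N) {s : FD.SIso (bc X f) (bc X f')}
    {t : FD.SIso (bc X f') (bc X f'')} (hs : near G N s) (ht : near G N' t) : near G (N' * N) (s.trans t) := by
  intro r J
  have h1 := (t.fil _ _).1 (hs r J)
  have h2 := near_comp_aux (G := G) (M := N') hN (t.ψ : (bc X f').K →ₗ[R₁] (bc X f'').K) ht r J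
  have h3 := Submodule.add_mem _ h1 h2
  rw [map_sub] at h3
  have e : (s.trans t).ψ (G.ef f J) = t.ψ (s.ψ (G.ef f J)) := rfl
  rw [e]
  convert h3 using 1
  change _ = _ + (t.ψ _ - _)
  abel

theorem near_symm {N M : Matrix ι ι R₁} (hM : WtP G.wt M) (hNM : N * M = 1) {s : FD.SIso (bc X f) (bc X f')}
    (hs : near G N s) : near G M s.symm := by
  intro r J
  rw [s.fil]
  have h2 := near_comp_aux (G := G) (M := N) hM (s.ψ : (bc X f).K →ₗ[R₁] (bc X f').K) hs r J
  rw [hNM] at h2
  have h4 := near_refl (G := G) (f := f') r J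
  have h3 := Submodule.sub_mem _ h4 h2
  convert h3 using 1
  rw [map_sub]
  change s.ψ (s.ψ.symm (G.ef f' J)) - _ = G.ef f' J - _ - (s.ψ _ - _)
  rw [LinearEquiv.apply_symm_apply]
  abel

section bc

variable {R₂ : Type u} [CommRing R₂] {f₂ f₂' : R →+* R₂} (g : R₁ →+* R₂) (h : g.comp f = f₂) (h' : g.comp f' = f₂')

theorem tr_ef {r : ℕ} (J : Fin r → ι) : tr X g h (G.ef f J) = G.ef f₂ J := tr_canK X g h _

theorem near_bc {N : Matrix ι ι R₁} {s : FD.SIso (bc X f) (bc X f')} (hs : near G N s) :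
    near G (N.map g) (SIso.bc g h h' s) := by
  intro r J
  have h1 := tr_mem X g h' (hs r J)
  convert h1 using 1
  rw [map_sub, map_sum]
  congr 1
  · rw [← tr_ef g h]
    exact bcEquiv_tr X X g h h' s.ψ _
  · refine Finset.sum_congr rfl fun J' _ => ?_
    rw [LinearMap.map_smulₛₗ, tr_ef, coef_map]

end bc

/-- two isomorphisms with the same symbol are close -/
theorem near_sub {N : Matrix ι ι R₁} {s t : FD.SIso (bc X f) (bc X f')} (hs : near G N s) (ht : near G N t)
    (hφ : ∀ m x, x ∈ (bc X f).Fil m → s.φ x - t.φ x ∈ (bc X f').Fil (m + 1))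
    (m : ℕ) (v : (bc X f).K) (hv : v ∈ (bc X f).FilK m) : s.ψ v - t.ψ v ∈ (bc X f').FilK (m + 1) := by
  have hE : ∀ (r : ℕ) (J : Fin r → ι), s.ψ (G.ef f J) - t.ψ (G.ef f J) ∈ (bc X f').FilK (∑ i, G.wt (J i) + 1) := by
    intro r J
    have := Submodule.sub_mem _ (hs r J) (ht r J)
    rwa [sub_sub_sub_cancel_right] at this
  -- the case of `q • e_J`
  have key : ∀ (r : ℕ) (J : Fin r → ι) (a : ℕ) (q : (bc X f).P), m ≤ a + ∑ i, G.wt (J i) → q ∈ (bc X f).Fil a →
      s.ψ (q • G.ef f J) - t.ψ (q • G.ef f J) ∈ (bc X f').FilK (m + 1) := by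
    intro r J a q hm hq
    have e : s.ψ (q • G.ef f J) - t.ψ (q • G.ef f J) = (s.φ q - t.φ q) • s.ψ (G.ef f J) +
        t.φ q • (s.ψ (G.ef f J) - t.ψ (G.ef f J)) := by
      rw [s.semi, t.semi, sub_smul, smul_sub]; abel
    rw [e]
    refine Submodule.add_mem _ ?_ ?_
    · have h1 := (bc X f').FilK_smul _ _ _ _ (hφ a q hq) ((s.fil _ _).1 (G.ef_mem f J))
      exact (bc X f').FilK_le (by omega) h1
    · have h1 := (bc X f').FilK_smul _ _ _ _ ((t.filP a q).1 hq) (hE r J)
      exact (bc X f').FilK_le (by omega) h1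
  rw [FilK_bc] at hv
  refine Submodule.closure_induction (p := fun v _ => s.ψ v - t.ψ v ∈ (bc X f').FilK (m + 1)) ?_ ?_ ?_ hv
  · rw [map_zero, map_zero, sub_zero]; exact Submodule.zero_mem _
  · intro v w _ _ hv hw
    rw [map_add, map_add, add_sub_add_comm]; exact Submodule.add_mem _ hv hw
  · rintro p _ ⟨w, hw, rfl⟩
    refine Submodule.closure_induction (p := fun w _ => s.ψ (p • canK X f w) - t.ψ (p • canK X f w) ∈
      (bc X f').FilK (m + 1)) ?_ ?_ ?_ (G.span m hw)
    · rw [map_zero, smul_zero, map_zero, map_zero, sub_zero]; exact Submodule.zero_mem _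
    · intro v w _ _ hv hw
      rw [map_add, smul_add, map_add, map_add, add_sub_add_comm]; exact Submodule.add_mem _ hv hw
    · rintro y _ ⟨r, J, a, x, hm, hx, rfl⟩
      rw [smul_smul, canK_smul, smul_smul]
      refine key r J a _ hm ?_
      refine Ideal.mul_mem_left _ _ ?_
      rw [map_mul]
      exact Ideal.mul_mem_left _ _ (canP_mem X f hx)

end near

end Groth.Agent.ResProp.EF.K379
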